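import Cfsg.Agent.R2.Spec.X4.H19.E78
import Cfsg.Agent.R2.Spec.X3.Base

/-!
# Box X3 of S3435, packet P-E: rows `E₇(u)`, `E₈(u)` (helper19)

By size, as in `X4/H19/E78`: `p (x² - 1) (x² + 1) (x² + x + 1) < 50 M⁴`.
-/

set_option autoImplicit false

namespace Cfsg.Agent.R2.Spec.X3

open Cfsg Cfsg.Lie Cfsg.Lie.ChevalleyDatum
open Cfsg.Agent.H77.E4Cls Cfsg.Agent.H77.E4Poly Cfsg.Agent.H77.E4Tor
open Cfsg.Agent.H75.M5h (ph ph_pos num7 num8 cls_E7 cls_E8 Pz_eq)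
open Cfsg.Agent.R2.Spec.X4.H19

/-- a multiple of the exponent -/
def EZ (p : ℕ) (x : ℤ) : ℤ := p * ((x ^ 2 - 1) * ((x ^ 2 + 1) * (x ^ 2 + x + 1)))

variable {p M : ℕ} {x : ℤ} {S : Type*} [Group S]

theorem sp_dvd_EZ {n : ℤ} (h : Sp p x n) : n ∣ EZ p x := by
  have key : ∀ c d : ℤ, c * n ∣ d → d ∣ EZ p x → n ∣ EZ p x := fun c d h1 h2 => (Dvd.intro_left c rfl).trans (h1.trans h2)
  rcases h with h | h | h | h | h
  · exact key _ _ h ⟨p * ((x + 1) * (x ^ 2 + 1)), by rw [EZ]; ring⟩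
  · exact key _ _ h ⟨p * ((x - 1) * (x ^ 2 + x + 1)), by rw [EZ]; ring⟩
  · exact h.trans ⟨p * ((x ^ 2 + 1) * (x ^ 2 + x + 1)), by rw [EZ]; ring⟩
  · exact key _ _ h ⟨(x ^ 2 + 1) * (x ^ 2 + x + 1), by rw [EZ]; ring⟩
  · exact h.trans ⟨(x + 1) * ((x ^ 2 + 1) * (x ^ 2 + x + 1)), by rw [EZ]; ring⟩

theorem EZ_facts (h : Cand p x M S) : 0 < EZ p x ∧ 2 * EZ p x ≤ 4300 * (M : ℤ) ^ 4 := by
  obtain ⟨y, hy⟩ : ∃ y, y = |x| := ⟨_, rfl⟩
  have hy5 : 5 ≤ y := by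
    rw [hy]
    rcases h.x_bd with h1 | h1 | h1
    · rw [abs_of_nonneg (by omega)]; omega
    · rw [abs_of_nonneg (by omega)]; omega
    · rw [abs_of_nonpos (by omega)]; omega
  have hpy : (p : ℤ) ≤ y := by rw [hy]; rcases h.p_cases with h1 | h1 <;> omega
  have hp0 : (5 : ℤ) ≤ p := by exact_mod_cast h.h5
  have hx2 : x ^ 2 = y ^ 2 := by rw [hy, sq_abs]
  have hxy : x ≤ y := by rw [hy]; exact le_abs_self x
  have hxy' : -y ≤ x := by rw [hy]; exact neg_abs_le x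
  have h1 : 0 ≤ x ^ 2 + x + 1 := by nlinarith
  have h1' : 0 < x ^ 2 + x + 1 := by nlinarith
  have h2 : x ^ 2 + x + 1 ≤ y ^ 2 + y + 1 := by rw [hx2]; linarith
  have hM : 3 * y ^ 2 ≤ 10 * (M : ℤ) := by
    rcases h.x_sq_le with h3 | ⟨h3, h4⟩
    · rw [← hx2]; exact h3
    · rw [← hx2]
      rcases h3 with h3 | h3
      · nlinarith
      · nlinarith
  have hy2 : 0 < y ^ 2 - 1 := by nlinarith
  refine ⟨?_, ?_⟩
  · rw [EZ, hx2]
    rw [hx2] at h1'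
    have : (0 : ℤ) < p := by omega
    positivity
  · have h3 : EZ p x ≤ y * ((y ^ 2 - 1) * ((y ^ 2 + 1) * (y ^ 2 + y + 1))) := by
      rw [EZ, hx2]
      rw [hx2] at h1 h2
      have h4 : (y ^ 2 - 1) * ((y ^ 2 + 1) * (y ^ 2 + x + 1)) ≤ (y ^ 2 - 1) * ((y ^ 2 + 1) * (y ^ 2 + y + 1)) :=
        mul_le_mul_of_nonneg_left (mul_le_mul_of_nonneg_left h2 (by positivity)) hy2.le
      have h5 : 0 ≤ (y ^ 2 - 1) * ((y ^ 2 + 1) * (y ^ 2 + x + 1)) :=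
        mul_nonneg hy2.le (mul_nonneg (by positivity) h1)
      exact mul_le_mul hpy h4 h5 (by omega)
    have h4 : (3 * y ^ 2) ^ 4 ≤ (10 * (M : ℤ)) ^ 4 := pow_le_pow_left₀ (by positivity) hM 4
    have h5 : (3 * y ^ 2) ^ 4 = 81 * y ^ 8 := by ring
    have h6 : (10 * (M : ℤ)) ^ 4 = 10000 * (M : ℤ) ^ 4 := by ring
    rw [h5, h6] at h4
    have h7 : y * ((y ^ 2 - 1) * ((y ^ 2 + 1) * (y ^ 2 + y + 1))) ≤ y ^ 8 := by
      have h8 : y * ((y ^ 2 - 1) * ((y ^ 2 + 1) * (y ^ 2 + y + 1))) = y ^ 7 + y ^ 6 + y ^ 5 - y ^ 3 - y ^ 2 - y := by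
        ring
      rw [h8]
      have h9 : 5 * y ^ 5 ≤ y ^ 6 := by
        rw [show y ^ 6 = y * y ^ 5 by ring]
        exact mul_le_mul_of_nonneg_right hy5 (by positivity)
      have h10 : 5 * y ^ 6 ≤ y ^ 7 := by
        rw [show y ^ 7 = y * y ^ 6 by ring]
        exact mul_le_mul_of_nonneg_right hy5 (by positivity)
      have h11 : 5 * y ^ 7 ≤ y ^ 8 := by
        rw [show y ^ 8 = y * y ^ 7 by ring]
        exact mul_le_mul_of_nonneg_right hy5 (by positivity)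
      have h12 : (0 : ℤ) ≤ y ^ 3 + y ^ 2 + y := by positivity
      have h13 : (0 : ℤ) ≤ y ^ 5 := by positivity
      linarith
    have h8 : (0 : ℤ) ≤ (M : ℤ) ^ 4 := by positivity
    linarith

/-- the common part of the two rows -/
theorem base_row (h : Cand p x M S) : ∃ W : ℕ, (∀ g : S, orderOf g ∣ W) ∧ 0 < ((2 * W : ℕ) : ℤ) ∧
    ((2 * W : ℕ) : ℤ) ≤ 4300 * (M : ℤ) ^ 4 := by
  obtain ⟨h1, h2⟩ := EZ_facts h
  refine ⟨(EZ p x).natAbs, fun g => ?_, ?_, ?_⟩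
  · have h3 := sp_dvd_EZ (h.spec g)
    exact Int.natCast_dvd.1 h3
  · push_cast
    rw [abs_of_pos h1]
    linarith
  · push_cast
    rw [abs_of_pos h1]
    exact h2

/-- **Row `E₇(u)`.** -/
theorem row_E7 {F : Type*} [Field F] [Fintype F] {p M : ℕ} {x : ℤ} (_hpF : (p : F) ≠ 0)
    (h : Cand p x M ↥(chevE7.group F)) : False := by
  obtain ⟨y, hy⟩ := h.elt
  have hM13 := h.M_ge
  obtain ⟨W, hW, hWp, hWa⟩ := base_row h
  have hfin : Finite ↥(chevE7.group F) := inferInstance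
  obtain ⟨m0, hm, hd⟩ := cls_E7 F y (by omega) fun r hr hrd => by
    rw [hy] at hrd
    exact ⟨(h.prime_facts hr hrd).1, h.not_adj hr hrd⟩
  rw [hy] at hd
  have hv : (2 : ℤ) ≤ (Nat.card F : ℕ) := by
    have : 2 ≤ Nat.card F := Finite.one_lt_card
    exact_mod_cast this
  have hd' : (M : ℤ) ∣ ph m0 (Nat.card F : ℕ) := by
    have := Int.natCast_dvd_natCast.2 hd
    rwa [cast_Pn Finite.one_lt_card, Pz_eq (by
      simp only [List.mem_cons, List.not_mem_nil, or_false] at hm ⊢; tauto)] at this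
  have hle := Int.le_of_dvd (ph_pos hv) hd'
  have hle7 : (M : ℤ) ≤ ph 7 (Nat.card F : ℕ) := by
    refine hle.trans ?_
    generalize ((Nat.card F : ℕ) : ℤ) = x at *
    have h0 : 0 ≤ x := by omega
    have h1 : 0 ≤ x - 1 := by omega
    simp only [List.mem_cons, List.not_mem_nil, or_false] at hm
    rcases hm with rfl | rfl | rfl | rfl | rfl
    · exact le_rfl
    · have : ph 7 x = ph 9 x + (x ^ 5 + x ^ 4 + x ^ 2 + x) := by simp only [ph]; ring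
      rw [this]; linarith [show 0 ≤ x ^ 5 + x ^ 4 + x ^ 2 + x by positivity]
    · have : ph 7 x = ph 12 x + (x ^ 6 + x ^ 5 + x ^ 3 + 2 * x ^ 2 + x) := by simp only [ph]; ring
      rw [this]; linarith [show 0 ≤ x ^ 6 + x ^ 5 + x ^ 3 + 2 * x ^ 2 + x by positivity]
    · have : ph 7 x = ph 14 x + 2 * (x ^ 5 + x ^ 3 + x) := by simp only [ph]; ring
      rw [this]; linarith [show 0 ≤ x ^ 5 + x ^ 3 + x by positivity]
    · have : ph 7 x = ph 18 x + (x ^ 5 + x ^ 4 + 2 * x ^ 3 + x ^ 2 + x) := by simp only [ph]; ring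
      rw [this]; linarith [show 0 ≤ x ^ 5 + x ^ 4 + 2 * x ^ 3 + x ^ 2 + x by positivity]
  exact num7 hv (by omega) hWp hWa hle7 (rXE7_5 hW) (rXE7_7 hW) (rXE7_8 hW) (rXE7_9 hW) (rXE7_10 hW) (rXE7_12 hW)
    (rXE7_14 hW) (rXE7_18 hW)

/-- **Row `E₈(u)`.** -/
theorem row_E8 {F : Type*} [Field F] [Fintype F] {p M : ℕ} {x : ℤ} (_hpF : (p : F) ≠ 0)
    (h : Cand p x M ↥(chevE8.group F)) : False := by
  obtain ⟨y, hy⟩ := h.elt
  have hM13 := h.M_ge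
  obtain ⟨W, hW, hWp, hWa⟩ := base_row h
  have hfin : Finite ↥(chevE8.group F) := inferInstance
  obtain ⟨m0, hm, hd⟩ := cls_E8 F y (by omega) fun r hr hrd => by
    rw [hy] at hrd
    exact ⟨(h.prime_facts hr hrd).1, h.not_adj hr hrd⟩
  rw [hy] at hd
  have hv : (2 : ℤ) ≤ (Nat.card F : ℕ) := by
    have : 2 ≤ Nat.card F := Finite.one_lt_card
    exact_mod_cast this
  have hd' : (M : ℤ) ∣ ph m0 (Nat.card F : ℕ) := by
    have := Int.natCast_dvd_natCast.2 hd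
    rwa [cast_Pn Finite.one_lt_card, Pz_eq (by
      simp only [List.mem_cons, List.not_mem_nil, or_false] at hm ⊢; tauto)] at this
  have hle := Int.le_of_dvd (ph_pos hv) hd'
  have hle8 : (M : ℤ) ≤ 2 * (Nat.card F : ℕ) ^ 8 := by
    refine hle.trans ?_
    generalize ((Nat.card F : ℕ) : ℤ) = x at *
    have h0 : 0 ≤ x := by omega
    have h1 : 0 ≤ x - 1 := by omega
    have h2 : 0 ≤ x ^ 2 - 1 := by nlinarith
    simp only [List.mem_cons, List.not_mem_nil, or_false] at hm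
    rcases hm with rfl | rfl | rfl | rfl
    · have : 2 * x ^ 8 = ph 15 x + (x ^ 7 + x ^ 5 * (x ^ 2 - 1) + x ^ 7 * (x - 1) + x ^ 3 * (x - 1) + (x - 1)) := by
        simp only [ph]; ring
      rw [this]
      linarith [show 0 ≤ x ^ 7 + x ^ 5 * (x ^ 2 - 1) + x ^ 7 * (x - 1) + x ^ 3 * (x - 1) + (x - 1) by positivity]
    · have : 2 * x ^ 8 = ph 20 x + (x ^ 8 + x ^ 4 * (x ^ 2 - 1) + (x ^ 2 - 1)) := by simp only [ph]; ring
      rw [this]; linarith [show 0 ≤ x ^ 8 + x ^ 4 * (x ^ 2 - 1) + (x ^ 2 - 1) by positivity]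
    · have : 2 * x ^ 8 = ph 24 x + (x ^ 8 + x ^ 2 * (x ^ 2 - 1) + (x ^ 2 - 1)) := by simp only [ph]; ring
      rw [this]; linarith [show 0 ≤ x ^ 8 + x ^ 2 * (x ^ 2 - 1) + (x ^ 2 - 1) by positivity]
    · have : 2 * x ^ 8 = ph 30 x + (x ^ 7 * (x - 1) + x ^ 5 + x ^ 3 * (x - 1) + x * (x ^ 2 - 1) + (x ^ 3 - 1)) := by
        simp only [ph]; ring
      have h3 : 0 ≤ x ^ 3 - 1 := by nlinarith
      rw [this]
      linarith [show 0 ≤ x ^ 7 * (x - 1) + x ^ 5 + x ^ 3 * (x - 1) + x * (x ^ 2 - 1) + (x ^ 3 - 1) by positivity]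
  exact num8 hv (by omega) hWp hWa hle8 (rXE8_7 hW) (rXE8_9 hW) (rXE8_14 hW) (rXE8_15 hW) (rXE8_18 hW) (rXE8_20 hW)
    (rXE8_24 hW) (rXE8_30 hW)

end Cfsg.Agent.R2.Spec.X3
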